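import Mathlib

/-!
# Helper24 — an Eckmann–Hilton lemma for points of a monoid object

In a cartesian monoidal category, let `D`, `D₂` be objects with maps `q₁ q₂ : D₂ ⟶ D`,
`j₁ j₂ δ : D ⟶ D₂` and a "centre" `c : 𝟙_ ⟶ D` satisfying the identities of the first order
neighbourhoods `D = Spec k[ε]`, `D₂ = Spec k[ε₁, ε₂]/(ε₁, ε₂)²`.  Then for centred points `t`, `t'`
of a monoid object the point `s = (q₁ ≫ t) * (q₂ ≫ t')` of `D₂` restricts to `t`, `t'` and `t * t'`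
along `j₁`, `j₂`, `δ`.
-/

set_option autoImplicit false

universe v u

open CategoryTheory MonoidalCategory CartesianMonoidalCategory MonObj

namespace Groth.Agent.Lib.Helper24.Tangent

variable {C : Type u} [Category.{v} C] [CartesianMonoidalCategory C] {G : C} [MonObj G]

section

variable {D D₂ : C} (q₁ q₂ : D₂ ⟶ D) (j₁ j₂ δ : D ⟶ D₂) (c : 𝟙_ C ⟶ D)
  (t t' : D ⟶ G)

/-- the point of `D₂` -/
def ehPoint : D₂ ⟶ G := (q₁ ≫ t) * (q₂ ≫ t')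

theorem j₁_ehPoint (h11 : j₁ ≫ q₁ = 𝟙 D) (h12 : j₁ ≫ q₂ = toUnit D ≫ c) (ht' : c ≫ t' = η[G]) :
    j₁ ≫ ehPoint q₁ q₂ t t' = t := by
  rw [ehPoint, MonObj.comp_mul, ← Category.assoc, h11, Category.id_comp, ← Category.assoc, h12,
    Category.assoc, ht', ← Hom.one_def, _root_.mul_one]

theorem j₂_ehPoint (h21 : j₂ ≫ q₁ = toUnit D ≫ c) (h22 : j₂ ≫ q₂ = 𝟙 D) (ht : c ≫ t = η[G]) :
    j₂ ≫ ehPoint q₁ q₂ t t' = t' := by
  rw [ehPoint, MonObj.comp_mul, ← Category.assoc, h21, Category.assoc, ht, ← Hom.one_def,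
    ← Category.assoc, h22, Category.id_comp, _root_.one_mul]

theorem δ_ehPoint (h1 : δ ≫ q₁ = 𝟙 D) (h2 : δ ≫ q₂ = 𝟙 D) :
    δ ≫ ehPoint q₁ q₂ t t' = t * t' := by
  rw [ehPoint, MonObj.comp_mul, ← Category.assoc, h1, Category.id_comp, ← Category.assoc, h2,
    Category.id_comp]

theorem c_ehPoint (c₂ : 𝟙_ C ⟶ D₂) (hc1 : c₂ ≫ q₁ = c) (hc2 : c₂ ≫ q₂ = c) (ht : c ≫ t = η[G])
    (ht' : c ≫ t' = η[G]) : c₂ ≫ ehPoint q₁ q₂ t t' = η[G] := by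
  rw [ehPoint, MonObj.comp_mul, ← Category.assoc, hc1, ht, ← Category.assoc, hc2, ht',
    MonObj.one_eq_one, _root_.mul_one]

end

theorem c_mul {D : C} (c : 𝟙_ C ⟶ D) (t t' : D ⟶ G) (ht : c ≫ t = η[G]) (ht' : c ≫ t' = η[G]) :
    c ≫ (t * t') = η[G] := by
  rw [MonObj.comp_mul, ht, ht', MonObj.one_eq_one, _root_.mul_one]

theorem c_pow {D : C} (c : 𝟙_ C ⟶ D) (t : D ⟶ G) (ht : c ≫ t = η[G]) (n : ℕ) :
    c ≫ (t ^ n) = η[G] := by
  rw [MonObj.comp_pow, ht, MonObj.one_eq_one, one_pow]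

theorem c_one {D : C} (c : 𝟙_ C ⟶ D) : c ≫ (1 : D ⟶ G) = η[G] := by
  rw [MonObj.comp_one, MonObj.one_eq_one]

end Groth.Agent.Lib.Helper24.Tangent
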