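import Mathlib

/-!
# Helper24 — germ homomorphisms and first order neighbourhoods over a field
-/

set_option autoImplicit false

universe u

open CategoryTheory AlgebraicGeometry IsLocalRing MonoidalCategory CartesianMonoidalCategory

namespace Groth.Agent.Lib.Helper24.Tangent

section germ

variable {X : Scheme.{u}}

/-- uniqueness of germ homomorphisms -/
theorem germ_unique {R : CommRingCat.{u}} (x : X) (θ θ' : X.presheaf.stalk x ⟶ R)
    (h : Spec.map θ ≫ X.fromSpecStalk x = Spec.map θ' ≫ X.fromSpecStalk x) : θ = θ' := by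
  apply Spec.map_injective
  exact (cancel_mono (X.fromSpecStalk x)).1 h

/-- existence of germ homomorphisms -/
theorem exists_germ {R : CommRingCat.{u}} [IsLocalRing R] (f : Spec R ⟶ X) (x : X)
    (hx : f (closedPoint R) = x) :
    ∃ θ : X.presheaf.stalk x ⟶ R, Spec.map θ ≫ X.fromSpecStalk x = f := by
  subst hx
  exact ⟨Scheme.stalkClosedPointTo f, Scheme.Spec_stalkClosedPointTo_fromSpecStalk f⟩

end germ

section D

variable (k : Type u) [Field k]

/-- `Spec R` as an object over `Spec k` -/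
noncomputable def D (R : Type u) [CommRing R] [Algebra k R] : Over (Spec (CommRingCat.of k)) :=
  Over.mk (Spec.map (CommRingCat.ofHom (algebraMap k R)))

variable {k}

/-- functoriality -/
noncomputable def Dmap {R R' : Type u} [CommRing R] [Algebra k R] [CommRing R'] [Algebra k R']
    (ψ : R →ₐ[k] R') : D k R' ⟶ D k R :=
  Over.homMk (Spec.map (CommRingCat.ofHom ψ.toRingHom)) (by
    change Spec.map _ ≫ Spec.map _ = Spec.map _
    rw [← Spec.map_comp, ← CommRingCat.ofHom_comp]
    congr 2
    exact ψ.comp_algebraMap)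

@[simp]
theorem Dmap_left {R R' : Type u} [CommRing R] [Algebra k R] [CommRing R'] [Algebra k R']
    (ψ : R →ₐ[k] R') : (Dmap ψ).left = Spec.map (CommRingCat.ofHom ψ.toRingHom) := rfl

theorem Dmap_comp {R R' R'' : Type u} [CommRing R] [Algebra k R] [CommRing R'] [Algebra k R']
    [CommRing R''] [Algebra k R''] (ψ : R →ₐ[k] R') (ψ' : R' →ₐ[k] R'') :
    Dmap (ψ'.comp ψ) = Dmap ψ' ≫ Dmap ψ := by
  ext1
  change Spec.map (CommRingCat.ofHom (ψ'.comp ψ).toRingHom) =
    Spec.map (CommRingCat.ofHom ψ'.toRingHom) ≫ Spec.map (CommRingCat.ofHom ψ.toRingHom)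
  rw [← Spec.map_comp, ← CommRingCat.ofHom_comp]
  rfl

theorem Dmap_id {R : Type u} [CommRing R] [Algebra k R] : Dmap (AlgHom.id k R) = 𝟙 (D k R) := by
  ext1
  simp only [Dmap_left, Over.id_left]
  exact Spec.map_id _

/-- the centre of `Spec R` defined by an augmentation -/
noncomputable def cen {R : Type u} [CommRing R] [Algebra k R] (ε : R →ₐ[k] k) :
    𝟙_ (Over (Spec (CommRingCat.of k))) ⟶ D k R :=
  Over.homMk (Spec.map (CommRingCat.ofHom ε.toRingHom)) (by
    change Spec.map _ ≫ Spec.map _ = 𝟙 _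
    rw [← Spec.map_comp, ← CommRingCat.ofHom_comp]
    have : (ε.toRingHom).comp (algebraMap k R) = RingHom.id k := by
      ext x
      simp
    rw [this]
    exact Spec.map_id _)

@[simp]
theorem cen_left {R : Type u} [CommRing R] [Algebra k R] (ε : R →ₐ[k] k) :
    (cen ε).left = Spec.map (CommRingCat.ofHom ε.toRingHom) := rfl

theorem cen_Dmap {R R' : Type u} [CommRing R] [Algebra k R] [CommRing R'] [Algebra k R']
    (ψ : R →ₐ[k] R') (ε : R' →ₐ[k] k) : cen ε ≫ Dmap ψ = cen (ε.comp ψ) := by
  ext1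
  change Spec.map (CommRingCat.ofHom ε.toRingHom) ≫ Spec.map (CommRingCat.ofHom ψ.toRingHom) =
    Spec.map (CommRingCat.ofHom (ε.comp ψ).toRingHom)
  rw [← Spec.map_comp, ← CommRingCat.ofHom_comp]
  rfl

/-- a map factoring through the augmentation factors through the centre -/
theorem Dmap_eq_toUnit_cen {R R' : Type u} [CommRing R] [Algebra k R] [CommRing R'] [Algebra k R']
    (ψ : R →ₐ[k] R') (ε : R →ₐ[k] k) (h : ∀ x, ψ x = algebraMap k R' (ε x)) :
    Dmap ψ = toUnit (D k R') ≫ cen ε := by
  ext1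
  change Spec.map (CommRingCat.ofHom ψ.toRingHom) =
    Spec.map (CommRingCat.ofHom (algebraMap k R')) ≫ Spec.map (CommRingCat.ofHom ε.toRingHom)
  rw [← Spec.map_comp, ← CommRingCat.ofHom_comp]
  congr 2
  ext x
  exact h x

end D

end Groth.Agent.Lib.Helper24.Tangent
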