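import Mathlib
import Groth.Agent.Lib.Helper24.Tangent.EH
import Groth.Agent.Lib.Helper24.Tangent.Germ

/-!
# Helper24 — tangent vectors at the unit of a group scheme over a field

Additivity of the "tangent vector" attached to a centred `k[ε]`-point of a group scheme `G`
over a field `k`.
-/

set_option autoImplicit false

universe u

open CategoryTheory AlgebraicGeometry IsLocalRing MonoidalCategory CartesianMonoidalCategory MonObj

namespace Groth.Agent.Lib.Helper24.Tangent

instance isLocalRing_tsze {k : Type u} [Field k] {M : Type u} [AddCommGroup M] [Module k M]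
    [Module kᵐᵒᵖ M] [IsCentralScalar k M] : IsLocalRing (TrivSqZeroExt k M) where
  isUnit_or_isUnit_of_add_one {a b} h := by
    rw [add_comm, ← eq_sub_iff_add_eq] at h
    rcases eq_or_ne (TrivSqZeroExt.fst a) 0 with ha | ha <;>
    simp [TrivSqZeroExt.isUnit_iff_isUnit_fst, h, ha]

instance isLocalHom_fstHom {k : Type u} [Field k] {M : Type u} [AddCommGroup M] [Module k M]
    [Module kᵐᵒᵖ M] [IsCentralScalar k M] :
    IsLocalHom (TrivSqZeroExt.fstHom k k M).toRingHom where
  map_nonunit a h := TrivSqZeroExt.isUnit_iff_isUnit_fst.2 h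

variable {k : Type u} [Field k] (G : Over (Spec (CommRingCat.of k)))

section general

variable (e : 𝟙_ (Over (Spec (CommRingCat.of k))) ⟶ G)

/-- the image of the section -/
noncomputable def pt0 : ↥G.left :=
  e.left.base (show ↥(Spec (CommRingCat.of k)) from closedPoint k)

/-- `θ` is the germ homomorphism of the `R`-point `t` at the base point -/
def IsGerm {R : Type u} [CommRing R] [Algebra k R] (t : D k R ⟶ G)
    (θ : (G.left.presheaf.stalk (pt0 G e)) →+* R) : Prop :=
  Spec.map (CommRingCat.ofHom θ) ≫ G.left.fromSpecStalk (pt0 G e) = t.left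

variable {G e}

theorem IsGerm.unique {R : Type u} [CommRing R] [Algebra k R] {t : D k R ⟶ G}
    {θ θ' : (G.left.presheaf.stalk (pt0 G e)) →+* R} (h : IsGerm G e t θ) (h' : IsGerm G e t θ') :
    θ = θ' := by
  have := germ_unique (pt0 G e) (CommRingCat.ofHom θ) (CommRingCat.ofHom θ') (h.trans h'.symm)
  exact congrArg CommRingCat.Hom.hom this

theorem IsGerm.comp {R R' : Type u} [CommRing R] [Algebra k R] [CommRing R'] [Algebra k R']
    {t : D k R ⟶ G} {θ : (G.left.presheaf.stalk (pt0 G e)) →+* R} (h : IsGerm G e t θ)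
    (ψ : R →ₐ[k] R') : IsGerm G e (Dmap ψ ≫ t) (ψ.toRingHom.comp θ) := by
  change Spec.map (CommRingCat.ofHom θ ≫ CommRingCat.ofHom ψ.toRingHom) ≫ _ =
    Spec.map (CommRingCat.ofHom ψ.toRingHom) ≫ t.left
  rw [Spec.map_comp, Category.assoc, h]

theorem exists_isGerm {R : Type u} [CommRing R] [Algebra k R] [IsLocalRing R] (ε : R →ₐ[k] k)
    [IsLocalHom ε.toRingHom] (t : D k R ⟶ G) (ht : cen ε ≫ t = e) :
    ∃ θ, IsGerm G e t θ := by
  have hpt : t.left.base (show ↥(Spec (CommRingCat.of R)) from closedPoint R) = pt0 G e := by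
    have h1 : Spec.map (CommRingCat.ofHom ε.toRingHom)
        (show ↥(Spec (CommRingCat.of k)) from closedPoint k) = closedPoint R :=
      Spec_closedPoint (f := CommRingCat.ofHom ε.toRingHom)
    rw [pt0, ← ht]
    change _ = (Spec.map (CommRingCat.ofHom ε.toRingHom) ≫ t.left).base _
    rw [Scheme.Hom.comp_base, TopCat.comp_app]
    exact congrArg _ h1.symm
  obtain ⟨θ, hθ⟩ := exists_germ (R := CommRingCat.of R) t.left (pt0 G e) hpt
  exact ⟨θ.hom, hθ⟩

/-- compatibility with the augmentation -/
theorem IsGerm.aug {R : Type u} [CommRing R] [Algebra k R] {t : D k R ⟶ G}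
    {θ : (G.left.presheaf.stalk (pt0 G e)) →+* R} (h : IsGerm G e t θ) (ε : R →ₐ[k] k)
    (ht : cen ε ≫ t = e) {ρ : (G.left.presheaf.stalk (pt0 G e)) →+* k}
    (hρ : Spec.map (CommRingCat.ofHom ρ) ≫ G.left.fromSpecStalk (pt0 G e) = e.left) :
    ε.toRingHom.comp θ = ρ := by
  have h1 : Spec.map (CommRingCat.ofHom (ε.toRingHom.comp θ)) ≫
      G.left.fromSpecStalk (pt0 G e) = e.left := by
    change Spec.map (CommRingCat.ofHom θ ≫ CommRingCat.ofHom ε.toRingHom) ≫ _ = _
    rw [Spec.map_comp, Category.assoc, h, ← ht]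
    rfl
  have := germ_unique (pt0 G e) (CommRingCat.ofHom (ε.toRingHom.comp θ)) (CommRingCat.ofHom ρ)
    (h1.trans hρ.symm)
  exact congrArg CommRingCat.Hom.hom this

/-- compatibility with the structure map -/
theorem IsGerm.struct {R : Type u} [CommRing R] [Algebra k R] {t : D k R ⟶ G}
    {θ : (G.left.presheaf.stalk (pt0 G e)) →+* R} (h : IsGerm G e t θ)
    {i : k →+* (G.left.presheaf.stalk (pt0 G e))}
    (hi : Spec.map (CommRingCat.ofHom i) = G.left.fromSpecStalk (pt0 G e) ≫ G.hom) :
    θ.comp i = algebraMap k R := by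
  have h1 : Spec.map (CommRingCat.ofHom (θ.comp i)) =
      Spec.map (CommRingCat.ofHom (algebraMap k R)) := by
    change Spec.map (CommRingCat.ofHom i ≫ CommRingCat.ofHom θ) = _
    rw [Spec.map_comp, hi, ← Category.assoc, h]
    exact Over.w t
  exact congrArg CommRingCat.Hom.hom (Spec.map_injective h1)

end general

end Groth.Agent.Lib.Helper24.Tangent
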