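import Mathlib
import Groth.Agent.Lib.Helper24.Tangent.Lam

/-!
# Helper24 — additivity of tangent vectors at the unit of a group scheme over a field
-/

set_option autoImplicit false

universe u

open CategoryTheory AlgebraicGeometry IsLocalRing MonoidalCategory CartesianMonoidalCategory MonObj

namespace Groth.Agent.Lib.Helper24.Tangent

variable {k : Type u} [Field k] (G : Over (Spec (CommRingCat.of k))) [GrpObj G]

/-- dual numbers -/
abbrev R1 (k : Type u) [Field k] : Type u := TrivSqZeroExt k k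

/-- `k[ε₁, ε₂]/(ε₁, ε₂)²` -/
abbrev R2 (k : Type u) [Field k] : Type u := TrivSqZeroExt k (k × k)

section maps

variable (k)

noncomputable def q₁ : D k (R2 k) ⟶ D k (R1 k) := Dmap (TrivSqZeroExt.map (LinearMap.inl k k k))
noncomputable def q₂ : D k (R2 k) ⟶ D k (R1 k) := Dmap (TrivSqZeroExt.map (LinearMap.inr k k k))
noncomputable def j₁ : D k (R1 k) ⟶ D k (R2 k) := Dmap (TrivSqZeroExt.map (LinearMap.fst k k k))
noncomputable def j₂ : D k (R1 k) ⟶ D k (R2 k) := Dmap (TrivSqZeroExt.map (LinearMap.snd k k k))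
noncomputable def δ : D k (R1 k) ⟶ D k (R2 k) :=
  Dmap (TrivSqZeroExt.map (LinearMap.fst k k k + LinearMap.snd k k k))
noncomputable def c₁ : 𝟙_ (Over (Spec (CommRingCat.of k))) ⟶ D k (R1 k) :=
  cen (TrivSqZeroExt.fstHom k k k)
noncomputable def c₂ : 𝟙_ (Over (Spec (CommRingCat.of k))) ⟶ D k (R2 k) :=
  cen (TrivSqZeroExt.fstHom k k (k × k))

theorem j₁_q₁ : j₁ k ≫ q₁ k = 𝟙 _ := by
  rw [j₁, q₁, ← Dmap_comp, ← TrivSqZeroExt.map_comp_map]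
  have : (LinearMap.fst k k k).comp (LinearMap.inl k k k) = LinearMap.id := by ext; simp
  rw [this, TrivSqZeroExt.map_id, Dmap_id]

theorem j₂_q₂ : j₂ k ≫ q₂ k = 𝟙 _ := by
  rw [j₂, q₂, ← Dmap_comp, ← TrivSqZeroExt.map_comp_map]
  have : (LinearMap.snd k k k).comp (LinearMap.inr k k k) = LinearMap.id := by ext; simp
  rw [this, TrivSqZeroExt.map_id, Dmap_id]

theorem δ_q₁ : δ k ≫ q₁ k = 𝟙 _ := by
  rw [δ, q₁, ← Dmap_comp, ← TrivSqZeroExt.map_comp_map]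
  have : (LinearMap.fst k k k + LinearMap.snd k k k).comp (LinearMap.inl k k k) =
      LinearMap.id := by ext; simp
  rw [this, TrivSqZeroExt.map_id, Dmap_id]

theorem δ_q₂ : δ k ≫ q₂ k = 𝟙 _ := by
  rw [δ, q₂, ← Dmap_comp, ← TrivSqZeroExt.map_comp_map]
  have : (LinearMap.fst k k k + LinearMap.snd k k k).comp (LinearMap.inr k k k) =
      LinearMap.id := by ext; simp
  rw [this, TrivSqZeroExt.map_id, Dmap_id]

theorem j₁_q₂ : j₁ k ≫ q₂ k = toUnit _ ≫ c₁ k := by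
  rw [j₁, q₂, ← Dmap_comp, ← TrivSqZeroExt.map_comp_map, c₁]
  apply Dmap_eq_toUnit_cen
  intro x
  have : (LinearMap.fst k k k).comp (LinearMap.inr k k k) = 0 := by ext; simp
  rw [this]
  ext <;> simp [TrivSqZeroExt.algebraMap_eq_inl]

theorem j₂_q₁ : j₂ k ≫ q₁ k = toUnit _ ≫ c₁ k := by
  rw [j₂, q₁, ← Dmap_comp, ← TrivSqZeroExt.map_comp_map, c₁]
  apply Dmap_eq_toUnit_cen
  intro x
  have : (LinearMap.snd k k k).comp (LinearMap.inl k k k) = 0 := by ext; simp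
  rw [this]
  ext <;> simp [TrivSqZeroExt.algebraMap_eq_inl]

theorem c₂_q₁ : c₂ k ≫ q₁ k = c₁ k := by
  rw [c₂, q₁, cen_Dmap, TrivSqZeroExt.fstHom_comp_map, c₁]

theorem c₂_q₂ : c₂ k ≫ q₂ k = c₁ k := by
  rw [c₂, q₂, cen_Dmap, TrivSqZeroExt.fstHom_comp_map, c₁]

end maps

variable {G}

local notation "A₀" => (G.left.presheaf.stalk (pt0 G η[G]))

/-- **additivity** of tangent vectors -/
theorem isGerm_mul {t t' : D k (R1 k) ⟶ G} {θ θ' : A₀ →+* R1 k}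
    (h : IsGerm G η[G] t θ) (h' : IsGerm G η[G] t' θ') (ht : c₁ k ≫ t = η[G])
    (ht' : c₁ k ≫ t' = η[G]) :
    ∃ θ'' : A₀ →+* R1 k, IsGerm G η[G] (t * t') θ'' ∧
      ∀ a, TrivSqZeroExt.snd (θ'' a) = TrivSqZeroExt.snd (θ a) + TrivSqZeroExt.snd (θ' a) := by
  set s : D k (R2 k) ⟶ G := ehPoint (q₁ k) (q₂ k) t t' with hs
  have hsc : c₂ k ≫ s = η[G] := c_ehPoint (q₁ k) (q₂ k) (c₁ k) t t' (c₂ k) (c₂_q₁ k) (c₂_q₂ k) ht ht'
  obtain ⟨θs, hθs⟩ := exists_isGerm (TrivSqZeroExt.fstHom k k (k × k)) s hsc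
  have e1 : j₁ k ≫ s = t := j₁_ehPoint (q₁ k) (q₂ k) (j₁ k) (c₁ k) t t' (j₁_q₁ k) (j₁_q₂ k) ht'
  have e2 : j₂ k ≫ s = t' := j₂_ehPoint (q₁ k) (q₂ k) (j₂ k) (c₁ k) t t' (j₂_q₁ k) (j₂_q₂ k) ht
  have e3 : δ k ≫ s = t * t' := δ_ehPoint (q₁ k) (q₂ k) (δ k) t t' (δ_q₁ k) (δ_q₂ k)
  have g1 := hθs.comp (TrivSqZeroExt.map (LinearMap.fst k k k))
  have g2 := hθs.comp (TrivSqZeroExt.map (LinearMap.snd k k k))
  have g3 := hθs.comp (TrivSqZeroExt.map (LinearMap.fst k k k + LinearMap.snd k k k))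
  change IsGerm G η[G] (j₁ k ≫ s) _ at g1
  change IsGerm G η[G] (j₂ k ≫ s) _ at g2
  change IsGerm G η[G] (δ k ≫ s) _ at g3
  rw [e1] at g1
  rw [e2] at g2
  rw [e3] at g3
  refine ⟨_, g3, fun a => ?_⟩
  rw [h.unique g1, h'.unique g2]
  simp

theorem isGerm_one {ρ : A₀ →+* k}
    (hρ : Spec.map (CommRingCat.ofHom ρ) ≫ G.left.fromSpecStalk (pt0 G η[G]) = η[G].left) :
    IsGerm G η[G] (1 : D k (R1 k) ⟶ G) ((algebraMap k (R1 k)).comp ρ) := by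
  change Spec.map (CommRingCat.ofHom ρ ≫ CommRingCat.ofHom (algebraMap k (R1 k))) ≫ _ = _
  rw [Spec.map_comp, Category.assoc, hρ, Hom.one_def]
  rfl

/-- tangent vector of a power -/
theorem isGerm_pow {ρ : A₀ →+* k}
    (hρ : Spec.map (CommRingCat.ofHom ρ) ≫ G.left.fromSpecStalk (pt0 G η[G]) = η[G].left)
    {t : D k (R1 k) ⟶ G} {θ : A₀ →+* R1 k}
    (h : IsGerm G η[G] t θ) (ht : c₁ k ≫ t = η[G]) (n : ℕ) :
    ∃ θ' : A₀ →+* R1 k, IsGerm G η[G] (t ^ n) θ' ∧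
      ∀ a, TrivSqZeroExt.snd (θ' a) = (n : k) * TrivSqZeroExt.snd (θ a) := by
  induction n with
  | zero =>
    refine ⟨_, by rw [pow_zero]; exact isGerm_one hρ, fun a => ?_⟩
    simp [TrivSqZeroExt.algebraMap_eq_inl]
  | succ n ih =>
    obtain ⟨θn, hθn, hsnd⟩ := ih
    obtain ⟨θ', hθ', hsnd'⟩ := isGerm_mul hθn h (c_pow (c₁ k) t ht n) ht
    refine ⟨θ', by rw [pow_succ]; exact hθ', fun a => ?_⟩
    rw [hsnd', hsnd]
    push_cast
    ring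

/-- **the key identity**: an endomorphism germ `φ` of the `n`-th power map acts by `n` on tangent
vectors -/
theorem snd_comp_pow {ρ : A₀ →+* k}
    (hρ : Spec.map (CommRingCat.ofHom ρ) ≫ G.left.fromSpecStalk (pt0 G η[G]) = η[G].left)
    (n : ℕ) {φ : A₀ →+* A₀}
    (hφ : Spec.map (CommRingCat.ofHom φ) ≫ G.left.fromSpecStalk (pt0 G η[G]) =
      G.left.fromSpecStalk (pt0 G η[G]) ≫ ((𝟙 G : G ⟶ G) ^ n).left)
    {t : D k (R1 k) ⟶ G} {θ : A₀ →+* R1 k}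
    (h : IsGerm G η[G] t θ) (ht : c₁ k ≫ t = η[G]) (a : A₀) :
    TrivSqZeroExt.snd (θ (φ a)) = (n : k) * TrivSqZeroExt.snd (θ a) := by
  obtain ⟨θ', hθ', hsnd⟩ := isGerm_pow hρ h ht n
  have h2 : IsGerm G η[G] (t ^ n) (θ.comp φ) := by
    have e : t ^ n = t ≫ (𝟙 G : G ⟶ G) ^ n := by
      rw [MonObj.comp_pow, Category.comp_id]
    rw [e]
    change Spec.map (CommRingCat.ofHom φ ≫ CommRingCat.ofHom θ) ≫ _ = t.left ≫ _
    rw [Spec.map_comp, Category.assoc, hφ, ← Category.assoc, h]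
    rfl
  rw [← hsnd, hθ'.unique h2]
  rfl

end Groth.Agent.Lib.Helper24.Tangent
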