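import Mathlib

/-!
# Helper24 — a local endomorphism acting on the cotangent space by an invertible integer

Let `A` be a local ring with maximal ideal `m` and `φ : A →+* A` a ring endomorphism with
`φ a - a ∈ m` for all `a` and `φ x - n x ∈ m²` for `x ∈ m`, where `n` is a natural number
invertible in `A`.  Then `φ a - n^j a ∈ m^(j+1)` for `a ∈ m^j`, the induced maps on `A/m^j`
are bijective, and `m = φ(m) A` when `m` is finitely generated.
-/

set_option autoImplicit false

open IsLocalRing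

namespace Groth.Agent.Lib.Helper24.Tangent

variable {A : Type*} [CommRing A] [IsLocalRing A] (φ : A →+* A) (n : ℕ)

/-- the graded congruences -/
theorem congr_pow (h0 : ∀ a : A, φ a - a ∈ maximalIdeal A)
    (h1 : ∀ x ∈ maximalIdeal A, φ x - (n : A) * x ∈ maximalIdeal A ^ 2) (j : ℕ) :
    ∀ a ∈ maximalIdeal A ^ j, φ a - (n : A) ^ j * a ∈ maximalIdeal A ^ (j + 1) := by
  induction j with
  | zero =>
    intro a _
    simpa using h0 a
  | succ j ih =>
    intro a ha
    rw [pow_succ'] at ha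
    refine Submodule.smul_induction_on ha ?_ ?_
    · intro x hx b hb
      have e : φ (x • b) - (n : A) ^ (j + 1) * (x • b) =
          (φ x - (n : A) * x) * φ b + ((n : A) * x) * (φ b - (n : A) ^ j * b) := by
        rw [smul_eq_mul, map_mul]; ring
      rw [e]
      have hφb : φ b ∈ maximalIdeal A ^ j := by
        have h2 : φ b - (n : A) ^ j * b ∈ maximalIdeal A ^ j :=
          Ideal.pow_le_pow_right (Nat.le_succ j) (ih b hb)
        have h3 : (n : A) ^ j * b ∈ maximalIdeal A ^ j := Ideal.mul_mem_left _ _ hb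
        have := Ideal.add_mem _ h2 h3
        simpa using this
      have t1 : (φ x - (n : A) * x) * φ b ∈ maximalIdeal A ^ (j + 1 + 1) := by
        have := Ideal.mul_mem_mul (h1 x hx) hφb
        rw [← pow_add] at this
        convert this using 2
        omega
      have t2 : ((n : A) * x) * (φ b - (n : A) ^ j * b) ∈ maximalIdeal A ^ (j + 1 + 1) := by
        have := Ideal.mul_mem_mul (Ideal.mul_mem_left _ (n : A) hx) (ih b hb)
        rw [← pow_succ'] at this
        exact this
      exact Ideal.add_mem _ t1 t2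
    · intro a b ha hb
      have e : φ (a + b) - (n : A) ^ (j + 1) * (a + b) =
          (φ a - (n : A) ^ (j + 1) * a) + (φ b - (n : A) ^ (j + 1) * b) := by
        rw [map_add]; ring
      rw [e]
      exact Ideal.add_mem _ ha hb

/-- injectivity modulo powers of the maximal ideal -/
theorem mem_pow_of_map_mem_pow (hn : IsUnit (n : A)) (h0 : ∀ a : A, φ a - a ∈ maximalIdeal A)
    (h1 : ∀ x ∈ maximalIdeal A, φ x - (n : A) * x ∈ maximalIdeal A ^ 2) (j : ℕ) :
    ∀ a : A, φ a ∈ maximalIdeal A ^ j → a ∈ maximalIdeal A ^ j := by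
  induction j with
  | zero => intro a _; simp
  | succ j ih =>
    intro a ha
    have haj : a ∈ maximalIdeal A ^ j := ih a (Ideal.pow_le_pow_right (Nat.le_succ j) ha)
    have h2 := congr_pow φ n h0 h1 j a haj
    have h3 : (n : A) ^ j * a ∈ maximalIdeal A ^ (j + 1) := by
      have := Ideal.sub_mem _ ha h2
      simpa using this
    obtain ⟨u, hu⟩ := (hn.pow j)
    have : a = (↑u⁻¹ : A) * ((n : A) ^ j * a) := by
      rw [← hu, ← mul_assoc, Units.inv_mul, one_mul]
    rw [this]
    exact Ideal.mul_mem_left _ _ h3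

/-- surjectivity modulo powers of the maximal ideal -/
theorem exists_map_sub_mem_pow (hn : IsUnit (n : A)) (h0 : ∀ a : A, φ a - a ∈ maximalIdeal A)
    (h1 : ∀ x ∈ maximalIdeal A, φ x - (n : A) * x ∈ maximalIdeal A ^ 2) (j : ℕ) :
    ∀ b : A, ∃ a : A, φ a - b ∈ maximalIdeal A ^ j := by
  induction j with
  | zero => intro b; exact ⟨0, by simp⟩
  | succ j ih =>
    intro b
    obtain ⟨a, ha⟩ := ih b
    obtain ⟨u, hu⟩ := (hn.pow j)
    set e := b - φ a with he
    have hej : e ∈ maximalIdeal A ^ j := by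
      have := Ideal.neg_mem_iff _ |>.mpr ha
      simpa [he] using this
    refine ⟨a + (↑u⁻¹ : A) * e, ?_⟩
    have h2 := congr_pow φ n h0 h1 j e hej
    have h3 := h0 (↑u⁻¹ : A)
    have key : φ (a + (↑u⁻¹ : A) * e) - b =
        φ (↑u⁻¹ : A) * (φ e - (n : A) ^ j * e) + (φ (↑u⁻¹ : A) - (↑u⁻¹ : A)) * ((n : A) ^ j * e) +
          ((↑u⁻¹ : A) * (n : A) ^ j - 1) * e := by
      rw [map_add, map_mul, he]; ring
    rw [key]
    have t3 : ((↑u⁻¹ : A) * (n : A) ^ j - 1) * e = 0 := by
      rw [← hu, Units.inv_mul, sub_self, zero_mul]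
    rw [t3, add_zero]
    refine Ideal.add_mem _ (Ideal.mul_mem_left _ _ h2) ?_
    have := Ideal.mul_mem_mul h3 (Ideal.mul_mem_left _ ((n : A) ^ j) hej)
    rwa [← pow_succ'] at this

theorem pow_le_comap (h0 : ∀ a : A, φ a - a ∈ maximalIdeal A) (j : ℕ) :
    maximalIdeal A ^ j ≤ (maximalIdeal A ^ j).comap φ := by
  have hm : maximalIdeal A ≤ (maximalIdeal A).comap φ := by
    intro x hx
    have := Ideal.add_mem _ (h0 x) hx
    simpa using this
  rw [← Ideal.map_le_iff_le_comap, Ideal.map_pow]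
  exact Ideal.pow_right_mono (Ideal.map_le_iff_le_comap.mpr hm) j

/-- the induced maps on `A ⧸ m ^ j` are bijective -/
theorem bijective_quotientMap (hn : IsUnit (n : A)) (h0 : ∀ a : A, φ a - a ∈ maximalIdeal A)
    (h1 : ∀ x ∈ maximalIdeal A, φ x - (n : A) * x ∈ maximalIdeal A ^ 2) (j : ℕ) :
    Function.Bijective (Ideal.quotientMap (maximalIdeal A ^ j) φ (pow_le_comap φ h0 j)) := by
  constructor
  · rw [injective_iff_map_eq_zero]
    intro x hx
    obtain ⟨a, rfl⟩ := Ideal.Quotient.mk_surjective x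
    rw [Ideal.quotientMap_mk, Ideal.Quotient.eq_zero_iff_mem] at hx
    rw [Ideal.Quotient.eq_zero_iff_mem]
    exact mem_pow_of_map_mem_pow φ n hn h0 h1 j a hx
  · intro y
    obtain ⟨b, rfl⟩ := Ideal.Quotient.mk_surjective y
    obtain ⟨a, ha⟩ := exists_map_sub_mem_pow φ n hn h0 h1 j b
    refine ⟨Ideal.Quotient.mk _ a, ?_⟩
    rw [Ideal.quotientMap_mk, Ideal.Quotient.eq]
    exact ha

/-- `m = φ(m) A` -/
theorem map_maximalIdeal_eq (hn : IsUnit (n : A)) (h0 : ∀ a : A, φ a - a ∈ maximalIdeal A)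
    (h1 : ∀ x ∈ maximalIdeal A, φ x - (n : A) * x ∈ maximalIdeal A ^ 2)
    (hfg : (maximalIdeal A).FG) : (maximalIdeal A).map φ = maximalIdeal A := by
  have hm : maximalIdeal A ≤ (maximalIdeal A).comap φ := by
    simpa using pow_le_comap φ h0 1
  apply le_antisymm (Ideal.map_le_iff_le_comap.mpr hm)
  -- Nakayama
  have hle : maximalIdeal A ≤ (maximalIdeal A).map φ ⊔ maximalIdeal A • maximalIdeal A := by
    intro x hx
    obtain ⟨u, hu⟩ := hn
    have h2 := h1 x hx
    have e : x = (↑u⁻¹ : A) * φ x - (↑u⁻¹ : A) * (φ x - (n : A) * x) := by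
      rw [← hu]
      have : (↑u⁻¹ : A) * (φ x - (u : A) * x) = (↑u⁻¹ : A) * φ x - ((↑u⁻¹ : A) * u) * x := by ring
      rw [this, Units.inv_mul, one_mul]; ring
    rw [e]
    refine Submodule.sub_mem _ (Submodule.mem_sup_left ?_) (Submodule.mem_sup_right ?_)
    · exact Ideal.mul_mem_left _ _ (Ideal.mem_map_of_mem φ hx)
    · rw [smul_eq_mul, ← pow_two]
      exact Ideal.mul_mem_left _ _ h2
  exact Submodule.le_of_le_smul_of_le_jacobson_bot hfg
    (by rw [IsLocalRing.jacobson_eq_maximalIdeal _ bot_ne_top]) hle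

end Groth.Agent.Lib.Helper24.Tangent
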