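import Mathlib
import Groth.Agent.Lib.Helper24.Tangent.GrAlg
import Groth.Agent.Lib.Helper4.QuotFlat

/-!
# Helper24 — flatness of a local endomorphism acting invertibly on the cotangent space

If `A` is a noetherian local ring and `φ : A →+* A` acts as the identity on the residue field
and by an invertible integer on `m/m²`, then `φ` induces an automorphism of the completion and
hence is flat.
-/

set_option autoImplicit false

open IsLocalRing

namespace Groth.Agent.Lib.Helper24.Tangent

variable {A : Type*} [CommRing A] [IsLocalRing A] (φ : A →+* A) (n : ℕ)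

section

variable (h0 : ∀ a : A, φ a - a ∈ maximalIdeal A)

/-- the maps on the truncations -/
noncomputable def qmap (j : ℕ) : A ⧸ maximalIdeal A ^ j →+* A ⧸ maximalIdeal A ^ j :=
  Ideal.quotientMap (maximalIdeal A ^ j) φ (pow_le_comap φ h0 j)

theorem qmap_mk (j : ℕ) (a : A) :
    qmap φ h0 j (Ideal.Quotient.mk _ a) = Ideal.Quotient.mk _ (φ a) :=
  Ideal.quotientMap_mk

theorem factorPow_qmap {i j : ℕ} (hij : i ≤ j) (x : A ⧸ maximalIdeal A ^ j) :
    Ideal.Quotient.factorPow (maximalIdeal A) hij (qmap φ h0 j x) =
      qmap φ h0 i (Ideal.Quotient.factorPow (maximalIdeal A) hij x) := by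
  obtain ⟨a, rfl⟩ := Ideal.Quotient.mk_surjective x
  simp [qmap_mk, Ideal.Quotient.factorPow]

theorem factorPow_evalₐ {i j : ℕ} (hij : i ≤ j) (x : AdicCompletion (maximalIdeal A) A) :
    Ideal.Quotient.factorPow (maximalIdeal A) hij (AdicCompletion.evalₐ (maximalIdeal A) j x) =
      AdicCompletion.evalₐ (maximalIdeal A) i x := by
  induction x using AdicCompletion.induction_on with
  | _ x =>
    rw [AdicCompletion.evalₐ_mk, AdicCompletion.evalₐ_mk]
    simp only [Ideal.Quotient.factorPow, Ideal.Quotient.factor_mk]
    exact AdicCompletion.Ideal.mk_eq_mk _ hij x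

theorem complMap_compat {i j : ℕ} (hij : i ≤ j) :
    (Ideal.Quotient.factorPow (maximalIdeal A) hij).comp
      ((qmap φ h0 j).comp (AdicCompletion.evalₐ (maximalIdeal A) j).toRingHom) =
      (qmap φ h0 i).comp (AdicCompletion.evalₐ (maximalIdeal A) i).toRingHom := by
  refine RingHom.ext fun x => ?_
  change Ideal.Quotient.factorPow (maximalIdeal A) hij
    (qmap φ h0 j (AdicCompletion.evalₐ (maximalIdeal A) j x)) =
    qmap φ h0 i (AdicCompletion.evalₐ (maximalIdeal A) i x)
  rw [factorPow_qmap, factorPow_evalₐ hij x]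

/-- the induced endomorphism of the completion -/
noncomputable def complMap :
    AdicCompletion (maximalIdeal A) A →+* AdicCompletion (maximalIdeal A) A :=
  AdicCompletion.liftRingHom (maximalIdeal A)
    (fun j => (qmap φ h0 j).comp (AdicCompletion.evalₐ (maximalIdeal A) j).toRingHom)
    (fun hij => complMap_compat φ h0 hij)

theorem evalₐ_complMap (j : ℕ) (x : AdicCompletion (maximalIdeal A) A) :
    AdicCompletion.evalₐ (maximalIdeal A) j (complMap φ h0 x) =
      qmap φ h0 j (AdicCompletion.evalₐ (maximalIdeal A) j x) := by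
  exact AdicCompletion.evalₐ_liftRingHom (maximalIdeal A) _ (fun hij => complMap_compat φ h0 hij) j x

theorem complMap_of (a : A) :
    complMap φ h0 (AdicCompletion.of (maximalIdeal A) A a) =
      AdicCompletion.of (maximalIdeal A) A (φ a) := by
  apply AdicCompletion.ext_evalₐ
  intro j
  rw [evalₐ_complMap, AdicCompletion.evalₐ_of, AdicCompletion.evalₐ_of, qmap_mk]

end

variable (hn : IsUnit (n : A)) (h0 : ∀ a : A, φ a - a ∈ maximalIdeal A)
  (h1 : ∀ x ∈ maximalIdeal A, φ x - (n : A) * x ∈ maximalIdeal A ^ 2)

include hn h0 h1 in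
theorem bijective_qmap (j : ℕ) : Function.Bijective (qmap φ h0 j) :=
  bijective_quotientMap φ n hn h0 h1 j

include hn h0 h1 in
theorem bijective_complMap : Function.Bijective (complMap φ h0) := by
  have hb := bijective_qmap φ n hn h0 h1
  constructor
  · rw [injective_iff_map_eq_zero]
    intro x hx
    apply AdicCompletion.ext_evalₐ
    intro j
    have := congrArg (AdicCompletion.evalₐ (maximalIdeal A) j) hx
    rw [evalₐ_complMap, map_zero] at this
    rw [map_zero]
    exact (hb j).1 (by rw [this, map_zero])
  · -- the inverse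
    let e : ∀ j, (A ⧸ maximalIdeal A ^ j) ≃+* (A ⧸ maximalIdeal A ^ j) :=
      fun j => RingEquiv.ofBijective (qmap φ h0 j) (hb j)
    let f : ∀ j, AdicCompletion (maximalIdeal A) A →+* A ⧸ maximalIdeal A ^ j :=
      fun j => ((e j).symm : _ →+* _).comp
          (AdicCompletion.evalₐ (maximalIdeal A) j).toRingHom
    have hf : ∀ {i j : ℕ} (hij : i ≤ j),
        (Ideal.Quotient.factorPow (maximalIdeal A) hij).comp (f j) = f i := by
      intro i j hij
      refine RingHom.ext fun x => ?_
      change Ideal.Quotient.factorPow (maximalIdeal A) hij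
        ((e j).symm (AdicCompletion.evalₐ (maximalIdeal A) j x)) =
        (e i).symm (AdicCompletion.evalₐ (maximalIdeal A) i x)
      apply (e i).injective
      rw [RingEquiv.apply_symm_apply]
      change qmap φ h0 i _ = _
      rw [← factorPow_qmap]
      change Ideal.Quotient.factorPow _ hij ((e j) ((e j).symm _)) = _
      rw [RingEquiv.apply_symm_apply]
      exact factorPow_evalₐ hij x
    let ψ : AdicCompletion (maximalIdeal A) A →+* AdicCompletion (maximalIdeal A) A :=
      AdicCompletion.liftRingHom (maximalIdeal A) f hf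
    intro y
    refine ⟨ψ y, ?_⟩
    apply AdicCompletion.ext_evalₐ
    intro j
    rw [evalₐ_complMap]
    have : AdicCompletion.evalₐ (maximalIdeal A) j (ψ y) =
        (e j).symm (AdicCompletion.evalₐ (maximalIdeal A) j y) := by
      exact AdicCompletion.evalₐ_liftRingHom (maximalIdeal A) f hf j y
    rw [this]
    exact (e j).apply_symm_apply _

include hn h0 h1 in
/-- the endomorphism is flat -/
theorem flat_of_congr [IsNoetherianRing A] : φ.Flat := by
  have hb := bijective_complMap φ n hn h0 h1
  have hof : (algebraMap A (AdicCompletion (maximalIdeal A) A)).FaithfullyFlat := by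
    rw [RingHom.faithfullyFlat_algebraMap_iff]
    exact Module.FaithfullyFlat.of_flat_of_isLocalHom
  apply RingHom.Flat.of_comp_faithfullyFlat hof
  have e : (algebraMap A (AdicCompletion (maximalIdeal A) A)).comp φ =
      (complMap φ h0).comp (algebraMap A (AdicCompletion (maximalIdeal A) A)) := by
    refine RingHom.ext fun a => ?_
    simp only [RingHom.comp_apply]
    rw [AdicCompletion.algebraMap_apply, AdicCompletion.algebraMap_apply]
    simp only [Algebra.algebraMap_self, RingHom.id_apply]
    exact (complMap_of φ h0 a).symm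
  rw [e]
  refine RingHom.Flat.comp ?_ (RingHom.Flat.of_bijective hb)
  exact hof.flat

end Groth.Agent.Lib.Helper24.Tangent

namespace Groth.Agent.Lib.Helper24.Tangent

/-- The two-ring form: `f : B → C` together with an identification `σ : C ≃ B`. -/
theorem final_alg {B C : Type*} [CommRing B] [CommRing C] [IsLocalRing B] [IsLocalRing C]
    [IsNoetherianRing C] (f : B →+* C) (σ : C ≃+* B) (n : ℕ) (hn : IsUnit (n : C))
    (h0 : ∀ c : C, f (σ c) - c ∈ maximalIdeal C)
    (h1 : ∀ x ∈ maximalIdeal C, f (σ x) - (n : C) * x ∈ maximalIdeal C ^ 2) :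
    f.Flat ∧ (maximalIdeal B).map f = maximalIdeal C ∧
      ∀ c : C, ∃ b : B, f b - c ∈ maximalIdeal C := by
  set φ : C →+* C := f.comp (σ : C →+* B) with hφ
  have hflat : φ.Flat := flat_of_congr φ n hn h0 h1
  have hmap : (maximalIdeal C).map φ = maximalIdeal C :=
    map_maximalIdeal_eq φ n hn h0 h1 (IsNoetherian.noetherian _)
  have hf : f = φ.comp (σ.symm : B →+* C) := by
    ext b
    simp [hφ]
  have hσm : (maximalIdeal C).map (σ : C →+* B) = maximalIdeal B :=
    IsLocalRing.map_maximalIdeal_of_surjective (σ : C →+* B) σ.surjective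
  refine ⟨?_, ?_, fun c => ⟨σ c, h0 c⟩⟩
  · rw [hf]
    exact RingHom.Flat.comp (RingHom.Flat.of_bijective σ.symm.bijective) hflat
  · rw [← hσm, Ideal.map_map]
    exact hmap

end Groth.Agent.Lib.Helper24.Tangent
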