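import Mathlib
import Groth.Agent.Lib.Helper24.Tangent.GrAlg

/-!
# Helper24 — detecting the action on the cotangent space by dual number points

Let `A` be a local ring with a coefficient field `i : k → A`, `ρ : A → k`.  If an endomorphism
`φ` of `A` (compatible with `i`, `ρ`) multiplies every tangent vector `A → k[ε]` by `n`, then
`φ x - n x ∈ m²` for `x ∈ m`.
-/

set_option autoImplicit false

open IsLocalRing

namespace Groth.Agent.Lib.Helper24.Tangent

variable {A : Type*} [CommRing A] [IsLocalRing A] {k : Type*} [Field k]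
  (i : k →+* A) (ρ : A →+* k) (hρi : ρ.comp i = RingHom.id k)

include hρi in
theorem mem_maximalIdeal_iff (a : A) : a ∈ maximalIdeal A ↔ ρ a = 0 := by
  have hsurj : Function.Surjective ρ := fun c => ⟨i c, by
    have := congrArg (fun f => f c) hρi
    simpa using this⟩
  have : (RingHom.ker ρ).IsMaximal := RingHom.ker_isMaximal_of_surjective ρ hsurj
  rw [← IsLocalRing.eq_maximalIdeal this, RingHom.mem_ker]

/-- the ring homomorphism to the dual numbers defined by an augmentation and a "derivation" -/
noncomputable def tangentHom (d : A →+ k) (h1 : d 1 = 0)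
    (hmul : ∀ a b, d (a * b) = ρ a * d b + ρ b * d a) : A →+* TrivSqZeroExt k k where
  toFun a := TrivSqZeroExt.inl (ρ a) + TrivSqZeroExt.inr (d a)
  map_one' := by ext <;> simp [h1]
  map_mul' a b := by
    ext
    · simp
    · simp [hmul, mul_comm]
  map_zero' := by ext <;> simp
  map_add' a b := by
    ext <;> simp

include hρi in
/-- the main statement -/
theorem congr_of_tangent (φ : A →+* A) (hρφ : ρ.comp φ = ρ) (n : ℕ)
    (H : ∀ θ : A →+* TrivSqZeroExt k k,
      (TrivSqZeroExt.fstHom k k k).toRingHom.comp θ = ρ → θ.comp i = algebraMap k _ →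
        ∀ a, TrivSqZeroExt.snd (θ (φ a)) = (n : k) * TrivSqZeroExt.snd (θ a)) :
    (∀ a : A, φ a - a ∈ maximalIdeal A) ∧
      (∀ x ∈ maximalIdeal A, φ x - (n : A) * x ∈ maximalIdeal A ^ 2) := by
  have hm := mem_maximalIdeal_iff i ρ hρi
  have hρi' : ∀ c, ρ (i c) = c := fun c => by
    have := congrArg (fun f => f c) hρi
    simpa using this
  have hρφ' : ∀ a, ρ (φ a) = ρ a := fun a => by
    have := congrArg (fun f => f a) hρφ
    simpa using this
  refine ⟨fun a => ?_, fun x hx => ?_⟩
  · rw [hm, map_sub, hρφ', sub_self]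
  · by_contra hy
    set y := φ x - (n : A) * x with hydef
    have hnA : (n : A) = i (n : k) := (map_natCast i n).symm
    have hxm : ρ x = 0 := (hm x).1 hx
    have hym : ρ y = 0 := by
      rw [hydef, map_sub, hρφ', map_mul, hxm, mul_zero, sub_zero]
    letI : Algebra k A := i.toAlgebra
    let N : Submodule k A :=
      (maximalIdeal A ^ 2).restrictScalars k ⊔ LinearMap.range (Algebra.linearMap k A)
    have hyN : y ∉ N := by
      intro hmem
      obtain ⟨z, hz, w, ⟨c, rfl⟩, hzw⟩ := Submodule.mem_sup.1 hmem
      have hz' : z ∈ maximalIdeal A ^ 2 := hz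
      have hzm : ρ z = 0 := (hm z).1 (Ideal.pow_le_self two_ne_zero hz')
      have hc : c = 0 := by
        have := congrArg ρ hzw
        rw [map_add, hzm, zero_add, hym] at this
        change ρ (i c) = 0 at this
        rwa [hρi'] at this
      rw [hc, map_zero, add_zero] at hzw
      exact hy (hzw ▸ hz')
    obtain ⟨d, hdy, hdN⟩ := Submodule.exists_dual_map_eq_bot_of_notMem hyN inferInstance
    have hd0 : ∀ z ∈ N, d z = 0 := by
      intro z hz
      have : d z ∈ N.map d := Submodule.mem_map_of_mem hz
      rw [hdN] at this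
      exact this
    have hdi : ∀ c, d (i c) = 0 := fun c =>
      hd0 _ (Submodule.mem_sup_right ⟨c, rfl⟩)
    have hdsq : ∀ z ∈ maximalIdeal A ^ 2, d z = 0 := fun z hz =>
      hd0 _ (Submodule.mem_sup_left hz)
    have hdsmul : ∀ (c : k) (a : A), d (i c * a) = c * d a := by
      intro c a
      have : i c * a = c • a := (Algebra.smul_def c a).symm
      rw [this, map_smul, smul_eq_mul]
    have hdec : ∀ a, a - i (ρ a) ∈ maximalIdeal A := fun a => by
      rw [hm, map_sub, hρi', sub_self]
    have hd_sub : ∀ a, d (a - i (ρ a)) = d a := fun a => by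
      rw [map_sub, hdi, sub_zero]
    have hmul : ∀ a b, d (a * b) = ρ a * d b + ρ b * d a := by
      intro a b
      have e : a * b = i (ρ a * ρ b) + i (ρ a) * (b - i (ρ b)) + i (ρ b) * (a - i (ρ a)) +
          (a - i (ρ a)) * (b - i (ρ b)) := by
        rw [map_mul]; ring
      have hsq : (a - i (ρ a)) * (b - i (ρ b)) ∈ maximalIdeal A ^ 2 := by
        rw [pow_two]
        exact Ideal.mul_mem_mul (hdec a) (hdec b)
      rw [e, map_add, map_add, map_add, hdi, hdsmul, hdsmul, hdsq _ hsq, hd_sub, hd_sub]
      ring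
    have hd1 : d 1 = 0 := by
      have := hdi 1
      rwa [map_one] at this
    let θ := tangentHom ρ d.toAddMonoidHom hd1 hmul
    have hθ1 : (TrivSqZeroExt.fstHom k k k).toRingHom.comp θ = ρ := by
      ext a
      simp [θ, tangentHom]
    have hθ2 : θ.comp i = algebraMap k _ := by
      ext c
      · simp [θ, tangentHom, hρi', TrivSqZeroExt.algebraMap_eq_inl]
      · simp [θ, tangentHom, hdi, TrivSqZeroExt.algebraMap_eq_inl]
    have key := H θ hθ1 hθ2 x
    have hsnd : ∀ a, TrivSqZeroExt.snd (θ a) = d a := by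
      intro a
      simp [θ, tangentHom]
    rw [hsnd, hsnd] at key
    apply hdy
    rw [hydef, map_sub, key, hnA, hdsmul, sub_self]

end Groth.Agent.Lib.Helper24.Tangent
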