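import Mathlib

/-!
# Helper24 — unramifiedness at a point from the stalk

A morphism locally of finite type whose stalk map at `x` satisfies `m_y 𝒪_x = m_x` with trivial
residue field extension is formally unramified on an open neighbourhood of `x`.
-/

set_option autoImplicit false

universe u

open CategoryTheory AlgebraicGeometry IsLocalRing

namespace Groth.Agent.Lib.Helper24.Tangent

variable {X Y : Scheme.{u}}

theorem formallyUnramified_stalkMap (f : X ⟶ Y) [LocallyOfFiniteType f] (x : X)
    (hm : (maximalIdeal (Y.presheaf.stalk (f x))).map (f.stalkMap x).hom =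
      maximalIdeal (X.presheaf.stalk x))
    (hres : ∀ c : X.presheaf.stalk x, ∃ b : Y.presheaf.stalk (f x),
      (f.stalkMap x).hom b - c ∈ maximalIdeal (X.presheaf.stalk x)) :
    (f.stalkMap x).hom.FormallyUnramified := by
  algebraize [(f.stalkMap x).hom]
  have : IsLocalHom (algebraMap (Y.presheaf.stalk (f x)) (X.presheaf.stalk x)) :=
    inferInstanceAs <| IsLocalHom (f.stalkMap x).hom
  have : Algebra.EssFiniteType (Y.presheaf.stalk (f x)) (X.presheaf.stalk x) := by
    rw [← RingHom.essFiniteType_algebraMap, RingHom.algebraMap_toAlgebra]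
    exact LocallyOfFiniteType.stalkMap f x
  have hsurj : Function.Surjective (algebraMap (ResidueField (Y.presheaf.stalk (f x)))
      (ResidueField (X.presheaf.stalk x))) := by
    intro z
    obtain ⟨c, rfl⟩ := residue_surjective z
    obtain ⟨b, hb⟩ := hres c
    refine ⟨residue _ b, ?_⟩
    rw [IsLocalRing.ResidueField.algebraMap_residue]
    rw [← sub_eq_zero, ← map_sub, residue_eq_zero_iff]
    exact hb
  have : Algebra.IsSeparable (ResidueField (Y.presheaf.stalk (f x)))
      (ResidueField (X.presheaf.stalk x)) := by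
    rw [Algebra.isSeparable_def]
    intro z
    obtain ⟨w, rfl⟩ := hsurj z
    exact isSeparable_algebraMap w
  rw [← RingHom.algebraMap_toAlgebra (f.stalkMap x).hom, RingHom.formallyUnramified_algebraMap]
  exact Algebra.FormallyUnramified.of_map_maximalIdeal hm

lemma formallyUnramified_stalkMap_iff {f : X ⟶ Y} {x : X} (U : Y.Opens)
      (hU : IsAffineOpen U) (V : X.Opens) (hV : IsAffineOpen V) (hVU : V ≤ f ⁻¹ᵁ U)
      (hx : x ∈ V) :
    letI := (f.appLE U V hVU).hom.toAlgebra
    (f.stalkMap x).hom.FormallyUnramified ↔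
      Algebra.IsUnramifiedAt Γ(Y, U) (hV.primeIdealOf ⟨x, hx⟩).asIdeal := by
  let := (f.appLE U V hVU).hom.toAlgebra
  let p := (hU.primeIdealOf ⟨f x, hVU hx⟩).asIdeal
  let q := (hV.primeIdealOf ⟨x, hx⟩).asIdeal
  have : q.LiesOver p :=
    ⟨congr($(IsAffineOpen.comap_primeIdealOf_appLE U hU V hV hVU hx).1).symm⟩
  let := Localization.AtPrime.algebraOfLiesOver p q
  trans Algebra.FormallyUnramified (Localization.AtPrime p) (Localization.AtPrime q)
  · rw [← RingHom.formallyUnramified_algebraMap]
    exact RingHom.FormallyUnramified.respectsIso.arrow_mk_iso_iff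
      (IsAffineOpen.arrowStalkMapIso f U hU V hV hVU hx)
  · exact ⟨fun _ => Algebra.FormallyUnramified.comp _ (Localization.AtPrime p) _,
      fun _ => Algebra.FormallyUnramified.of_restrictScalars Γ(Y, U) _ _⟩

set_option backward.defeqAttrib.useBackward true in
set_option backward.isDefEq.respectTransparency false in
lemma exists_unramified_of_formallyUnramified_stalk
    (f : X ⟶ Y) [LocallyOfFiniteType f]
    (x : X) (H : (f.stalkMap x).hom.FormallyUnramified) :
    ∃ (U : Y.Opens) (_ : IsAffineOpen U) (V : X.Opens) (_ : IsAffineOpen V) (hVU : V ≤ f ⁻¹ᵁ U),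
      x ∈ V ∧ (f.appLE U V hVU).hom.FormallyUnramified := by
  obtain ⟨_, ⟨U, hU, rfl⟩, hxU, -⟩ :=
    Y.isBasis_affineOpens.exists_subset_of_mem_open (Set.mem_univ (f x)) isOpen_univ
  obtain ⟨_, ⟨V, hV, rfl⟩, hxV, hVU⟩ :=
    X.isBasis_affineOpens.exists_subset_of_mem_open hxU (U.2.preimage f.continuous)
  have := f.finiteType_appLE hU hV hVU
  algebraize [(f.appLE U V hVU).hom]
  have : Algebra.IsUnramifiedAt _ _ := (formallyUnramified_stalkMap_iff U hU V hV hVU hxV).mp H
  obtain ⟨r, hrx, hr⟩ := Algebra.exists_formallyUnramified_of_isUnramifiedAt (R := Γ(Y, U))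
    (hV.primeIdealOf ⟨x, hxV⟩).asIdeal
  refine ⟨_, hU, _, hV.basicOpen r, (X.basicOpen_le r).trans hVU, ?_, ?_⟩
  · rwa [← PrimeSpectrum.mem_basicOpen, IsAffineOpen.primeIdealOf,
      ← hV.fromSpec_preimage_basicOpen, Scheme.Hom.mem_preimage, ← Scheme.Hom.comp_apply,
      IsAffineOpen.isoSpec_hom, IsAffineOpen.toSpecΓ_fromSpec] at hrx
  · have := hV.isLocalization_basicOpen r
    rw [← RingHom.formallyUnramified_algebraMap] at hr
    convert!
      RingHom.FormallyUnramified.respectsIso.1 _
        (IsLocalization.algEquiv (.powers r) _ Γ(X, X.basicOpen r)).toRingEquiv hr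
    ext
    dsimp
    simp only [IsScalarTower.algebraMap_apply Γ(Y, U) Γ(X, V) (Localization _),
      IsLocalization.map_eq]
    simp only [RingHom.algebraMap_toAlgebra, RingHomCompTriple.comp_apply,
      ← ConcreteCategory.comp_apply, Scheme.Hom.appLE_map]

/-- a morphism locally of finite type which is unramified at a point is unramified on an open
neighbourhood -/
theorem exists_unramified_open (f : X ⟶ Y) [LocallyOfFiniteType f] (x : X)
    (H : (f.stalkMap x).hom.FormallyUnramified) :
    ∃ W : X.Opens, x ∈ W ∧ FormallyUnramified (W.ι ≫ f) := by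
  obtain ⟨U, hU, V, hV, hVU, hxV, H⟩ := exists_unramified_of_formallyUnramified_stalk f x H
  refine ⟨V, hxV, ?_⟩
  rw [← Scheme.Hom.resLE_comp_ι _ hVU]
  have : IsAffine _ := hU
  have : IsAffine _ := hV
  have h1 : FormallyUnramified (f.resLE U V hVU) := by
    rw [HasRingHomProperty.iff_of_isAffine (P := @FormallyUnramified)]
    exact (RingHom.FormallyUnramified.respectsIso.arrow_mk_iso_iff
      (arrowResLEAppIso f U V hVU)).mpr H
  exact MorphismProperty.comp_mem _ _ _ h1 inferInstance

end Groth.Agent.Lib.Helper24.Tangent
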