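import Mathlib
import Groth.Agent.Lib.Helper24.Tangent.Add
import Groth.Agent.Lib.Helper24.Tangent.Cotan
import Groth.Agent.Lib.Helper24.Tangent.Compl
import Groth.Agent.Lib.Helper24.Tangent.UnrAt
import Groth.Agent.Lib.Helper24.FibHom.Props

/-!
# Helper24 — the `n`-th power map of an algebraic group is étale near the unit (`n` invertible)
-/

set_option autoImplicit false

universe u

open CategoryTheory AlgebraicGeometry IsLocalRing MonoidalCategory CartesianMonoidalCategory MonObj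

namespace Groth.Agent.Lib.Helper24.Tangent

variable {k : Type u} [Field k] (G : Over (Spec (CommRingCat.of k))) [GrpObj G]

theorem pow_left_pt0 (n : ℕ) :
    ((𝟙 G : G ⟶ G) ^ n).left.base (pt0 G η[G]) = pt0 G η[G] := by
  have h : η[G] ≫ (𝟙 G : G ⟶ G) ^ n = η[G] := c_pow η[G] (𝟙 G) (Category.comp_id _) n
  have h2 := congrArg (fun t => t.left) h
  simp only [Over.comp_left] at h2
  rw [pt0, ← Scheme.Hom.comp_apply, h2]

theorem stalkMap_of_germ {X Y : Scheme.{u}} (f : X ⟶ Y) (x : X) (y : Y) (hxy : f x = y)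
    (φ : Y.presheaf.stalk y ⟶ X.presheaf.stalk x)
    (hφ : Spec.map φ ≫ Y.fromSpecStalk y = X.fromSpecStalk x ≫ f) :
    ∃ σ : Y.presheaf.stalk y ≅ Y.presheaf.stalk (f x), φ = σ.hom ≫ f.stalkMap x := by
  subst hxy
  refine ⟨Iso.refl _, ?_⟩
  rw [Iso.refl_hom, Category.id_comp]
  apply germ_unique
  rw [hφ, Scheme.SpecMap_stalkMap_fromSpecStalk]

/-- the germ data at the unit point -/
theorem stalk_main [LocallyOfFiniteType G.hom] (n : ℕ) (hn : (n : k) ≠ 0) :
    (((𝟙 G : G ⟶ G) ^ n).left.stalkMap (pt0 G η[G])).hom.Flat ∧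
    (((𝟙 G : G ⟶ G) ^ n).left.stalkMap (pt0 G η[G])).hom.FormallyUnramified := by
  set e₀ := pt0 G η[G] with he₀
  set P : G ⟶ G := (𝟙 G : G ⟶ G) ^ n with hP
  have hηP : η[G] ≫ P = η[G] := c_pow η[G] (𝟙 G) (Category.comp_id _) n
  have hfix : P.left.base e₀ = e₀ := pow_left_pt0 G n
  haveI : IsLocallyNoetherian G.left := LocallyOfFiniteType.isLocallyNoetherian G.hom
  haveI : LocallyOfFiniteType P.left := by
    have : LocallyOfFiniteType (P.left ≫ G.hom) := by rw [Over.w P]; infer_instance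
    exact locallyOfFiniteType_of_comp P.left G.hom
  -- the augmentation
  obtain ⟨ρ', hρ'⟩ := exists_germ (R := CommRingCat.of k) η[G].left e₀ rfl
  -- the endomorphism
  obtain ⟨φ', hφ'⟩ := exists_germ (R := G.left.presheaf.stalk e₀)
    (G.left.fromSpecStalk e₀ ≫ P.left) e₀
    (by rw [Scheme.Hom.comp_apply, Scheme.fromSpecStalk_closedPoint, hfix])
  -- the structure map
  set i' : CommRingCat.of k ⟶ G.left.presheaf.stalk e₀ :=
    Spec.preimage (G.left.fromSpecStalk e₀ ≫ G.hom) with hi'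
  have hi : Spec.map i' = G.left.fromSpecStalk e₀ ≫ G.hom := Spec.map_preimage _
  -- relations
  have hρi : i' ≫ ρ' = 𝟙 _ := by
    apply Spec.map_injective
    rw [Spec.map_comp, hi, ← Category.assoc, hρ', Spec.map_id]
    exact Over.w η[G]
  have hρφ : φ' ≫ ρ' = ρ' := by
    apply germ_unique e₀
    rw [Spec.map_comp, Category.assoc, hφ', ← Category.assoc, hρ']
    exact congrArg (fun t => t.left) hηP
  -- tangent vectors
  have H : ∀ θ : (G.left.presheaf.stalk e₀) →+* TrivSqZeroExt k k,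
      (TrivSqZeroExt.fstHom k k k).toRingHom.comp θ = ρ'.hom → θ.comp i'.hom = algebraMap k _ →
        ∀ a, TrivSqZeroExt.snd (θ (φ'.hom a)) = (n : k) * TrivSqZeroExt.snd (θ a) := by
    intro θ hθ1 hθ2 a
    let t : D k (R1 k) ⟶ G := Over.homMk (Spec.map (CommRingCat.ofHom θ) ≫ G.left.fromSpecStalk e₀)
      (by
        change (Spec.map (CommRingCat.ofHom θ) ≫ G.left.fromSpecStalk e₀) ≫ G.hom =
          Spec.map (CommRingCat.ofHom (algebraMap k (R1 k)))
        rw [Category.assoc, ← hi, ← Spec.map_comp]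
        congr 1
        ext1
        exact hθ2)
    have ht : IsGerm G η[G] t θ := rfl
    have htc : c₁ k ≫ t = η[G] := by
      ext1
      change Spec.map (CommRingCat.ofHom (TrivSqZeroExt.fstHom k k k).toRingHom) ≫
        Spec.map (CommRingCat.ofHom θ) ≫ G.left.fromSpecStalk e₀ = η[G].left
      rw [← Category.assoc, ← Spec.map_comp, ← hρ']
      congr 2
      ext1
      exact hθ1
    exact snd_comp_pow (ρ := ρ'.hom) hρ' n (φ := φ'.hom) hφ' ht htc a
  have hρi' : ρ'.hom.comp i'.hom = RingHom.id k := by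
    have := congrArg CommRingCat.Hom.hom hρi
    exact this
  have hρφ' : ρ'.hom.comp φ'.hom = ρ'.hom := congrArg CommRingCat.Hom.hom hρφ
  obtain ⟨h0, h1⟩ := congr_of_tangent i'.hom ρ'.hom hρi' φ'.hom hρφ' n H
  have hnA : IsUnit ((n : ℕ) : G.left.presheaf.stalk e₀) := by
    rw [← map_natCast i'.hom n]
    exact (IsUnit.mk0 _ hn).map i'.hom
  -- comparison with the stalk map
  obtain ⟨σ, hσ⟩ := stalkMap_of_germ P.left e₀ e₀ hfix φ' hφ'
  have hσ' : ∀ c, (P.left.stalkMap e₀).hom (σ.commRingCatIsoToRingEquiv c) = φ'.hom c := by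
    intro c
    rw [hσ]
    rfl
  obtain ⟨hflat, hmap, hres⟩ := final_alg (P.left.stalkMap e₀).hom σ.commRingCatIsoToRingEquiv n hnA
    (fun c => by rw [hσ']; exact h0 c) (fun x hx => by rw [hσ']; exact h1 x hx)
  exact ⟨hflat, formallyUnramified_stalkMap P.left e₀ hmap hres⟩

/-- **SGA3 VII_A / Demazure–Gabriel**: the `n`-th power map is étale near the unit section when
`n` is invertible in `k`. -/
theorem main4111 [LocallyOfFiniteType G.hom] (n : ℕ) (hn : (n : k) ≠ 0) :
    ∃ U : G.left.Opens, (∀ p : ↥(𝟙_ (Over (Spec (CommRingCat.of k)))).left,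
        η[G].left.base p ∈ U) ∧ Etale (U.ι ≫ ((𝟙 G : G ⟶ G) ^ n).left) := by
  obtain ⟨hflat, hunr⟩ := stalk_main G n hn
  set e₀ := pt0 G η[G] with he₀
  set P : G ⟶ G := (𝟙 G : G ⟶ G) ^ n with hP
  haveI : LocallyOfFinitePresentation G.hom :=
    LocallyOfFinitePresentation.iff_locallyOfFiniteType.2 inferInstance
  haveI : LocallyOfFinitePresentation P.left := by
    apply Groth.Agent.Lib.Helper4.CentralizerClosed.lfp_of_comp P.left G.hom
    · rw [Over.w P]; infer_instance
    · infer_instance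
  obtain ⟨V₁, h1, hV₁⟩ := FibHom.exists_flat_open P.left e₀ hflat
  obtain ⟨V₂, h2, hV₂⟩ := exists_unramified_open P.left e₀ hunr
  refine ⟨V₁ ⊓ V₂, ?_, ?_⟩
  · intro p
    have hp : p = (show ↥(Spec (CommRingCat.of k)) from closedPoint k) :=
      Subsingleton.elim (α := PrimeSpectrum k) _ _
    rw [hp]
    exact ⟨h1, h2⟩
  · have e1 : (V₁ ⊓ V₂).ι ≫ P.left =
        G.left.homOfLE (inf_le_left : V₁ ⊓ V₂ ≤ V₁) ≫ (V₁.ι ≫ P.left) := by
      rw [← Category.assoc, Scheme.homOfLE_ι]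
    have e2 : (V₁ ⊓ V₂).ι ≫ P.left =
        G.left.homOfLE (inf_le_right : V₁ ⊓ V₂ ≤ V₂) ≫ (V₂.ι ≫ P.left) := by
      rw [← Category.assoc, Scheme.homOfLE_ι]
    haveI : Flat ((V₁ ⊓ V₂).ι ≫ P.left) := by
      rw [e1]
      infer_instance
    haveI : FormallyUnramified ((V₁ ⊓ V₂).ι ≫ P.left) := by
      rw [e2]
      exact MorphismProperty.comp_mem _ _ _ inferInstance hV₂
    exact Etale.of_formallyUnramified_of_flat _

end Groth.Agent.Lib.Helper24.Tangent
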