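import Mathlib
import Groth.Agent.Lib.Helper24.Tangent.Main4111
import Groth.Agent.Lib.Helper24.FibHom.Field

/-!
# Helper24 — the `n`-th power map of a commutative algebraic group is étale (`n` invertible)
-/

set_option autoImplicit false

universe v u

open CategoryTheory AlgebraicGeometry IsLocalRing MonoidalCategory CartesianMonoidalCategory MonObj

namespace Groth.Agent.Lib.Helper24.Tangent

section cat

variable {C : Type u} [Category.{v} C] [CartesianMonoidalCategory C] [BraidedCategory C]
  {G M : C} [MonObj G] [IsCommMonObj G] [MonObj M]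

theorem isMonHom_mul (f g : M ⟶ G) [IsMonHom f] [IsMonHom g] : IsMonHom (f * g) := by
  rw [Hom.mul_def]
  infer_instance

theorem isMonHom_one : IsMonHom (1 : M ⟶ G) := by
  rw [Hom.one_def]
  infer_instance

theorem isMonHom_pow (f : M ⟶ G) [IsMonHom f] (n : ℕ) : IsMonHom (f ^ n) := by
  induction n with
  | zero => rw [pow_zero]; exact isMonHom_one
  | succ n ih =>
    rw [pow_succ]
    haveI := ih
    exact isMonHom_mul _ _

end cat

universe w

theorem main4112 {k : Type w} [Field k] (G : Over (Spec (CommRingCat.of k))) [GrpObj G]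
    [IsCommMonObj G] [LocallyOfFiniteType G.hom] (n : ℕ) (hn : (n : k) ≠ 0) :
    Etale ((𝟙 G : G ⟶ G) ^ n).left := by
  obtain ⟨U, hU, hE⟩ := main4111 G n hn
  haveI : IsMonHom ((𝟙 G : G ⟶ G) ^ n) := isMonHom_pow _ n
  refine FibHom.hom_of_open_field @Etale G G _ U ?_ hE
  exact ⟨_, hU (show ↥(Spec (CommRingCat.of k)) from closedPoint k)⟩

end Groth.Agent.Lib.Helper24.Tangent
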