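import Mathlib
import Groth.Agent.Lib.Helper24.Tangent.Main4111

/-!
# Helper24 — the germ of the `n`-th power map at the unit acts by `n` on the cotangent space
(no hypothesis on `n`)
-/

set_option autoImplicit false

universe u

open CategoryTheory AlgebraicGeometry IsLocalRing MonoidalCategory CartesianMonoidalCategory MonObj

namespace Groth.Agent.Lib.Helper24.Tangent

variable {k : Type u} [Field k] (G : Over (Spec (CommRingCat.of k))) [GrpObj G]

/-- the stalk map of the `n`-th power map at the unit, up to the canonical identification of the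
stalks, is congruent to multiplication by `n` modulo `m²` on `m` -/
theorem stalk_congr (n : ℕ) :
    ∃ (i : k →+* G.left.presheaf.stalk (pt0 G η[G]))
      (σ : G.left.presheaf.stalk (pt0 G η[G]) ≅
        G.left.presheaf.stalk (((𝟙 G : G ⟶ G) ^ n).left.base (pt0 G η[G]))),
      ∀ x ∈ maximalIdeal (G.left.presheaf.stalk (pt0 G η[G])),
        (((𝟙 G : G ⟶ G) ^ n).left.stalkMap (pt0 G η[G])).hom (σ.hom.hom x) -
          i (n : k) * x ∈ maximalIdeal (G.left.presheaf.stalk (pt0 G η[G])) ^ 2 := by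
  set e₀ := pt0 G η[G] with he₀
  set P : G ⟶ G := (𝟙 G : G ⟶ G) ^ n with hP
  have hηP : η[G] ≫ P = η[G] := c_pow η[G] (𝟙 G) (Category.comp_id _) n
  have hfix : P.left.base e₀ = e₀ := pow_left_pt0 G n
  obtain ⟨ρ', hρ'⟩ := exists_germ (R := CommRingCat.of k) η[G].left e₀ rfl
  obtain ⟨φ', hφ'⟩ := exists_germ (R := G.left.presheaf.stalk e₀)
    (G.left.fromSpecStalk e₀ ≫ P.left) e₀
    (by rw [Scheme.Hom.comp_apply, Scheme.fromSpecStalk_closedPoint, hfix])
  set i' : CommRingCat.of k ⟶ G.left.presheaf.stalk e₀ :=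
    Spec.preimage (G.left.fromSpecStalk e₀ ≫ G.hom) with hi'
  have hi : Spec.map i' = G.left.fromSpecStalk e₀ ≫ G.hom := Spec.map_preimage _
  have hρi : i' ≫ ρ' = 𝟙 _ := by
    apply Spec.map_injective
    rw [Spec.map_comp, hi, ← Category.assoc, hρ', Spec.map_id]
    exact Over.w η[G]
  have hρφ : φ' ≫ ρ' = ρ' := by
    apply germ_unique e₀
    rw [Spec.map_comp, Category.assoc, hφ', ← Category.assoc, hρ']
    exact congrArg (fun t => t.left) hηP
  have H : ∀ θ : (G.left.presheaf.stalk e₀) →+* TrivSqZeroExt k k,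
      (TrivSqZeroExt.fstHom k k k).toRingHom.comp θ = ρ'.hom → θ.comp i'.hom = algebraMap k _ →
        ∀ a, TrivSqZeroExt.snd (θ (φ'.hom a)) = (n : k) * TrivSqZeroExt.snd (θ a) := by
    intro θ hθ1 hθ2 a
    let t : D k (R1 k) ⟶ G := Over.homMk (Spec.map (CommRingCat.ofHom θ) ≫ G.left.fromSpecStalk e₀)
      (by
        change (Spec.map (CommRingCat.ofHom θ) ≫ G.left.fromSpecStalk e₀) ≫ G.hom =
          Spec.map (CommRingCat.ofHom (algebraMap k (R1 k)))
        rw [Category.assoc, ← hi, ← Spec.map_comp]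
        congr 1
        ext1
        exact hθ2)
    have ht : IsGerm G η[G] t θ := rfl
    have htc : c₁ k ≫ t = η[G] := by
      ext1
      change Spec.map (CommRingCat.ofHom (TrivSqZeroExt.fstHom k k k).toRingHom) ≫
        Spec.map (CommRingCat.ofHom θ) ≫ G.left.fromSpecStalk e₀ = η[G].left
      rw [← Category.assoc, ← Spec.map_comp, ← hρ']
      congr 2
      ext1
      exact hθ1
    exact snd_comp_pow (ρ := ρ'.hom) hρ' n (φ := φ'.hom) hφ' ht htc a
  have hρi' : ρ'.hom.comp i'.hom = RingHom.id k := congrArg CommRingCat.Hom.hom hρi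
  have hρφ' : ρ'.hom.comp φ'.hom = ρ'.hom := congrArg CommRingCat.Hom.hom hρφ
  obtain ⟨h0, h1⟩ := congr_of_tangent i'.hom ρ'.hom hρi' φ'.hom hρφ' n H
  obtain ⟨σ, hσ⟩ := stalkMap_of_germ P.left e₀ e₀ hfix φ' hφ'
  refine ⟨i'.hom, σ, fun x hx => ?_⟩
  have e : (P.left.stalkMap e₀).hom (σ.hom.hom x) = φ'.hom x := by
    rw [hσ]
    rfl
  rw [e, map_natCast]
  exact h1 x hx

end Groth.Agent.Lib.Helper24.Tangent
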